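import Groth.Agent.GenDim.Basic
import Mathlib

/-!
# General points impose independent conditions on forms
-/

set_option autoImplicit false

universe u

namespace Groth.Agent.TanForms

open MvPolynomial

theorem points (k : Type u) [Field k] [Infinite k]
    (r d m : ℕ) (hm : Nat.choose (r + d) d ≤ m) :
    LefPen.IsZOpen k {x : Fin m → (Fin (r + 1) → k) |
      ∀ G : LefPen.Form r k d, (∀ i : Fin m, MvPolynomial.aeval (x i) G.1 = 0) → G = 0} ∧
    LefPen.IsGeneric k {x : Fin m → (Fin (r + 1) → k) |
      ∀ G : LefPen.Form r k d, (∀ i : Fin m, MvPolynomial.aeval (x i) G.1 = 0) → G = 0} := by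
  classical
  let M : Finset (Fin (r + 1) →₀ ℕ) := (Finset.univ : Finset (Fin (r + 1))).finsuppAntidiag d
  let φ : (Fin (r + 1) → k) → (M → k) := fun v β => eval v (monomial β.1 (1 : k))
  let A : (Fin m → (Fin (r + 1) → k)) → Matrix (Fin m) M k := fun x => Matrix.of fun i β => φ (x i) β
  let l : Fin m × Fin (r + 1) → Module.Dual k (Fin m → (Fin (r + 1) → k)) :=
    fun p => (LinearMap.proj (R := k) (φ := fun _ : Fin (r + 1) => k) p.2).comp
      (LinearMap.proj (R := k) (φ := fun _ : Fin m => Fin (r + 1) → k) p.1)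
  have hexp : ∀ (G : LefPen.Form r k d) (v : Fin (r + 1) → k), aeval v G.1 = ∑ β : M, φ v β * coeff β.1 G.1 := by
    intro G v
    rw [aeval_eq_eval, Finset.sum_coe_sort M (fun β => eval v (monomial β (1 : k)) * coeff β G.1)]
    conv_lhs => rw [G.1.as_sum]
    rw [map_sum, Finset.sum_subset (GenDim.forms_support G.1 ((mem_homogeneousSubmodule d _).1 G.2))
      fun β _ hb => by rw [notMem_support_iff.1 hb, map_zero, map_zero]]
    refine Finset.sum_congr rfl fun β _ => ?_
    rw [← mul_one (coeff β G.1), ← smul_eq_mul, ← smul_monomial, smul_eval]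
    simp [mul_comm]
  have hgood : ∀ x, (∀ G : LefPen.Form r k d, (∀ i : Fin m, aeval (x i) G.1 = 0) → G = 0) ↔
      Function.Injective (A x).mulVecLin := by
    intro x
    constructor
    · intro h
      refine (injective_iff_map_eq_zero _).2 fun c hc => ?_
      let G : LefPen.Form r k d := ⟨∑ β : M, monomial β.1 (c β), (mem_homogeneousSubmodule d _).2
        (IsHomogeneous.sum _ _ _ fun β _ => by
          rw [← mul_one (c β), ← C_mul_monomial]
          exact (GenDim.isHomogeneous_of_mem β.2).C_mul _)⟩
      have hG : G = 0 := h G fun i => by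
        have := congrFun hc i
        simp only [Matrix.mulVecLin_apply, Matrix.mulVec, dotProduct, A, Matrix.of_apply, φ, Pi.zero_apply] at this
        rw [← this]
        simp only [G, aeval_eq_eval, map_sum]
        refine Finset.sum_congr rfl fun β _ => ?_
        rw [← mul_one (c β), ← C_mul_monomial, map_mul, eval_C, mul_one, mul_comm]
      funext β
      have := congrArg (fun F : LefPen.Form r k d => coeff β.1 F.1) hG
      simp only [G, coeff_sum, coeff_monomial, ZeroMemClass.coe_zero, coeff_zero, Subtype.coe_inj,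
        Finset.sum_ite_eq', Finset.mem_univ, if_true] at this
      exact this
    · intro h G hG
      have hc : (fun β : M => coeff β.1 G.1) = 0 := h (funext fun i => by
        rw [map_zero, Matrix.mulVecLin_apply, Pi.zero_apply, ← hG i, hexp]
        rfl)
      refine Subtype.ext (MvPolynomial.ext _ _ fun β => ?_)
      by_cases hβ : β ∈ M
      · exact congrFun hc ⟨β, hβ⟩
      · exact notMem_support_iff.1 fun hs => hβ (GenDim.forms_support G.1 ((mem_homogeneousSubmodule d _).1 G.2) hs)
  have hopen : LefPen.IsZOpen k {x : Fin m → (Fin (r + 1) → k) |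
      ∀ G : LefPen.Form r k d, (∀ i : Fin m, aeval (x i) G.1 = 0) → G = 0} := by
    intro x hx
    obtain ⟨L, hL⟩ := ((A x).mulVecLin).exists_leftInverse_of_injective (LinearMap.ker_eq_bot.2 ((hgood x).1 hx))
    let Lm : Matrix M (Fin m) k := LinearMap.toMatrix' L
    let B : Matrix M M (MvPolynomial (Fin m × Fin (r + 1)) k) :=
      (Lm.map C : Matrix M (Fin m) (MvPolynomial (Fin m × Fin (r + 1)) k)) *
        (Matrix.of fun i (β : M) => rename (fun j => (i, j)) (monomial β.1 (1 : k)) :
          Matrix (Fin m) M (MvPolynomial (Fin m × Fin (r + 1)) k))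
    have hB : ∀ y, eval (fun p => l p y) B.det = (Lm * A y).det := by
      intro y
      rw [RingHom.map_det, RingHom.mapMatrix_apply]
      simp only [B]
      rw [Matrix.map_mul]
      congr 2
      · ext i j; simp
      · ext i β
        show eval _ (rename _ _) = _
        rw [eval_rename]
        rfl
    refine ⟨_, GenDim.isPolyFun_eval l B.det, ?_, fun y hy => (hgood y).2 ?_⟩
    · show eval (fun p => l p x) B.det ≠ 0
      rw [hB, show Lm * A x = 1 by
        have := congrArg LinearMap.toMatrix' hL
        rwa [LinearMap.toMatrix'_comp, ← Matrix.toLin'_apply', LinearMap.toMatrix'_toLin', LinearMap.toMatrix'_id] at this,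
        Matrix.det_one]
      exact one_ne_zero
    · have hy' : (Lm * A y).det ≠ 0 := hB y ▸ hy
      intro c c' hcc
      have : (Lm * A y).mulVec c = (Lm * A y).mulVec c' := by
        rw [← Matrix.mulVec_mulVec, ← Matrix.mulVec_mulVec]; exact congrArg (Lm.mulVec ·) hcc
      exact Matrix.mulVec_injective_iff_isUnit.2 ((Matrix.isUnit_iff_isUnit_det _).2 (Ne.isUnit hy')) this
  refine ⟨hopen, ?_⟩
  suffices hex : ∃ x : Fin m → (Fin (r + 1) → k), ∀ G : LefPen.Form r k d, (∀ i, aeval (x i) G.1 = 0) → G = 0 by
    obtain ⟨x, hx⟩ := hex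
    obtain ⟨f, h1, h2, h3⟩ := hopen x hx
    exact ⟨f, h1, ⟨x, h2⟩, h3⟩
  obtain ⟨κ, a, ha, hsp, hli⟩ := exists_linearIndependent' k φ
  haveI : Finite κ := hli.finite
  haveI := Fintype.ofFinite κ
  have hcard : Fintype.card κ ≤ m := by
    refine hli.fintype_card_le_finrank.trans ?_
    rw [Module.finrank_fintype_fun_eq_card, Fintype.card_coe, Finset.card_finsuppAntidiag_nat_eq_choose,
      Finset.card_univ, Fintype.card_fin, show r + 1 + d - 1 = r + d by omega]
    exact hm
  obtain ⟨ε⟩ : Nonempty (κ ↪ Fin m) := Function.Embedding.nonempty_of_card_le (by simpa using hcard)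
  let x : Fin m → (Fin (r + 1) → k) := Function.extend ε a 0
  refine ⟨x, fun G hG => ?_⟩
  have h0 : ∀ v : Fin (r + 1) → k, aeval v G.1 = 0 := by
    intro v
    let Λ : (M → k) →ₗ[k] k := ∑ β : M, (coeff β.1 G.1) • LinearMap.proj β
    have hΛ : ∀ w, Λ (φ w) = aeval w G.1 := fun w => by
      rw [hexp]; simp [Λ, LinearMap.sum_apply, mul_comm]
    have hle : Submodule.span k (Set.range (φ ∘ a)) ≤ LinearMap.ker Λ := by
      rw [Submodule.span_le]
      rintro _ ⟨j, rfl⟩
      rw [SetLike.mem_coe, LinearMap.mem_ker, Function.comp_apply, hΛ, ← hG (ε j)]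
      simp [x, ε.injective.extend_apply]
    rw [← hΛ]
    exact hle (hsp ▸ Submodule.subset_span ⟨v, rfl⟩)
  exact Subtype.ext (MvPolynomial.funext fun v => by rw [← aeval_eq_eval, h0]; simp)

end Groth.Agent.TanForms
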