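import Groth.Prelude.Def_LefPen
import Mathlib

/-!
# Forms tangent to two linear spaces at two points
-/

set_option autoImplicit false

universe u

namespace Groth.Agent.TanForms

open MvPolynomial

variable {k : Type u} [Field k] {r : ℕ}

/-- The directional derivative. -/
noncomputable def D (w v : Fin (r + 1) → k) (p : MvPolynomial (Fin (r + 1)) k) : k :=
  ∑ i, w i * eval v (pderiv i p)

theorem D_mul (w v : Fin (r + 1) → k) (p q : MvPolynomial (Fin (r + 1)) k) :
    D w v (p * q) = D w v p * eval v q + eval v p * D w v q := by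
  simp only [D, pderiv_mul, map_add, map_mul, Finset.sum_mul, Finset.mul_sum, ← Finset.sum_add_distrib]
  exact Finset.sum_congr rfl fun i _ => by ring

theorem D_pow (w v : Fin (r + 1) → k) (p : MvPolynomial (Fin (r + 1)) k) (n : ℕ) :
    D w v (p ^ n) = n * eval v p ^ (n - 1) * D w v p := by
  simp only [D, pderiv_pow, map_mul, map_pow, map_natCast, Finset.mul_sum]
  exact Finset.sum_congr rfl fun i _ => by ring

/-- The form of a functional. -/
noncomputable def lin (l : (Fin (r + 1) → k) →ₗ[k] k) : MvPolynomial (Fin (r + 1)) k :=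
  ∑ i, C (l (Pi.single i 1)) * X i

theorem eval_lin (l : (Fin (r + 1) → k) →ₗ[k] k) (v : Fin (r + 1) → k) : eval v (lin l) = l v := by
  conv_rhs => rw [pi_eq_sum_univ' v]
  simp [lin, map_sum, mul_comm]

theorem D_lin (l : (Fin (r + 1) → k) →ₗ[k] k) (w v : Fin (r + 1) → k) : D w v (lin l) = l w := by
  conv_rhs => rw [pi_eq_sum_univ' w]
  simp only [D, lin, map_sum, map_smul, smul_eq_mul]
  refine Finset.sum_congr rfl fun i _ => congrArg (w i * ·) ?_
  rw [Finset.sum_eq_single i]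
  · simp
  · intro b _ hb; simp [Pi.single_eq_of_ne hb]
  · simp

theorem D_self {d : ℕ} (v : Fin (r + 1) → k) {p : MvPolynomial (Fin (r + 1)) k} (hp : p.IsHomogeneous d) :
    D v v p = d * eval v p := by
  have := congrArg (eval v) hp.sum_X_mul_pderiv
  simpa [D, map_sum] using this

theorem D_comm (u v : Fin (r + 1) → k) {p : MvPolynomial (Fin (r + 1)) k} (hp : p.IsHomogeneous 2) :
    D u v p = D v u p := by
  have hadd : ∀ u v : Fin (r + 1) → k, ∀ f : (Fin (r + 1) →₀ ℕ) → MvPolynomial (Fin (r + 1)) k, ∀ s : Finset _,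
      D u v (∑ m ∈ s, f m) = ∑ m ∈ s, D u v (f m) := by
    intro u v f s
    simp only [D, map_sum, Finset.mul_sum]
    exact Finset.sum_comm
  rw [p.as_sum, hadd, hadd]
  refine Finset.sum_congr rfl fun m hm => ?_
  have hdeg : m.degree = 2 := by
    by_contra h
    exact (mem_support_iff.1 hm) (hp.coeff_eq_zero h)
  obtain ⟨a, ha⟩ := Finsupp.support_nonempty_iff.2 (show m ≠ 0 by rintro rfl; simp at hdeg)
  obtain ⟨m', rfl⟩ : ∃ m', m = Finsupp.single a 1 + m' :=
    exists_add_of_le (Finsupp.single_le_iff.2 (Nat.one_le_iff_ne_zero.2 (Finsupp.mem_support_iff.1 ha)))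
  rw [map_add, Finsupp.degree_single] at hdeg
  obtain ⟨b, rfl⟩ : ∃ b, m' = Finsupp.single b 1 := by
    obtain ⟨b, hb⟩ := Finsupp.support_nonempty_iff.2 (show m' ≠ 0 by rintro rfl; simp at hdeg)
    obtain ⟨m'', rfl⟩ : ∃ m'', m' = Finsupp.single b 1 + m'' :=
      exists_add_of_le (Finsupp.single_le_iff.2 (Nat.one_le_iff_ne_zero.2 (Finsupp.mem_support_iff.1 hb)))
    rw [map_add, Finsupp.degree_single] at hdeg
    exact ⟨b, by rw [(Finsupp.degree_eq_zero_iff m'').1 (by omega), add_zero]⟩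
  generalize coeff (Finsupp.single a 1 + Finsupp.single b 1) p = c
  rw [show monomial (Finsupp.single a 1 + Finsupp.single b 1) c = C c * (X a * X b) by
    rw [X, X, monomial_mul, C_mul_monomial, one_mul, mul_one]]
  have hX : ∀ u v : Fin (r + 1) → k, ∀ a, D u v (X a) = u a := fun u v a => by
    rw [D, Finset.sum_eq_single a]
    · simp
    · intro b _ hb; simp [pderiv_X_of_ne hb.symm]
    · simp
  have hC : ∀ u v : Fin (r + 1) → k, D u v (C c) = 0 := fun u v => by simp [D]
  simp only [D_mul, hC, hX, eval_X, eval_C, zero_mul, zero_add]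
  ring

variable {d : ℕ}

/-- The condition at one point, as a functional on `W`. -/
noncomputable def cond (W : Submodule k (Fin (r + 1) → k)) (ξ : (Fin (r + 1) → k) →ₗ[k] k) (v : Fin (r + 1) → k) :
    LefPen.Form r k d →ₗ[k] (↥W →ₗ[k] k) :=
  LinearMap.mk₂ k (fun G w => D w.1 v G.1 - ((d : k) - 1) * ξ w.1 * eval v G.1)
    (fun G G' w => by simp [D, mul_add, Finset.sum_add_distrib]; ring)
    (fun c G w => by simp [D, Finset.mul_sum, mul_sub, smul_eq_mul, mul_left_comm, smul_eval])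
    (fun G w w' => by simp [D, add_mul, mul_add, Finset.sum_add_distrib]; ring)
    (fun c G w => by simp [D, Finset.mul_sum, mul_sub, mul_assoc]; ring)

theorem cond_apply (W : Submodule k (Fin (r + 1) → k)) (ξ : (Fin (r + 1) → k) →ₗ[k] k) (v : Fin (r + 1) → k)
    (G : LefPen.Form r k d) (w : W) : cond W ξ v G w = D w.1 v G.1 - ((d : k) - 1) * ξ w.1 * eval v G.1 := rfl

theorem mem_ker_tangLin (W : Submodule k (Fin (r + 1) → k)) (ξ : (Fin (r + 1) → k) →ₗ[k] k) (v : Fin (r + 1) → k)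
    (hv : v ∈ W) (hξ : ξ v = 1) (G : LefPen.Form r k d) :
    G ∈ LinearMap.ker (LefPen.tangLin k W v) ↔ cond W ξ v G = 0 := by
  have h1 : LefPen.tangLin k W v G = (eval v G.1, fun w : W => D w.1 v G.1) := by
    refine Prod.ext ?_ (funext fun w => ?_)
    · simp [LefPen.tangLin, aeval_eq_eval]
    · simp [LefPen.tangLin, D, aeval_eq_eval]
  rw [LinearMap.mem_ker, h1, Prod.mk_eq_zero]
  constructor
  · rintro ⟨h0, hw⟩
    refine LinearMap.ext fun w => ?_
    have := congrFun hw w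
    simp only [Pi.zero_apply] at this
    rw [cond_apply, this, h0]; simp
  · intro h
    have h0 : eval v G.1 = 0 := by
      have := LinearMap.congr_fun h ⟨v, hv⟩
      rw [cond_apply, hξ, D_self v ((mem_homogeneousSubmodule d _).1 G.2)] at this
      simp only [LinearMap.zero_apply] at this
      linear_combination this
    refine ⟨h0, funext fun w => ?_⟩
    have := LinearMap.congr_fun h w
    rw [cond_apply, h0] at this
    simpa using this

theorem exists_form (hd : 2 ≤ d) (v₁ v₂ : Fin (r + 1) → k) (ξ η α β : (Fin (r + 1) → k) →ₗ[k] k)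
    (hξ₁ : ξ v₁ = 1) (hξ₂ : ξ v₂ = 0) (hη₁ : η v₁ = 0) (hη₂ : η v₂ = 1) (hc : d = 2 → α v₂ = β v₁) :
    ∃ G : LefPen.Form r k d, ∀ w, D w v₁ G.1 - ((d : k) - 1) * ξ w * eval v₁ G.1 = α w ∧
      D w v₂ G.1 - ((d : k) - 1) * η w * eval v₂ G.1 = β w := by
  obtain ⟨e, rfl⟩ : ∃ e, d = e + 2 := ⟨d - 2, by omega⟩
  have hl : ∀ l : (Fin (r + 1) → k) →ₗ[k] k, (lin l).IsHomogeneous 1 := fun l =>
    IsHomogeneous.sum _ _ _ fun i _ => IsHomogeneous.C_mul (isHomogeneous_X k i) _
  let c : k := if e = 0 then α v₂ else 0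
  let p := lin ξ ^ (e + 1) * lin α + lin η ^ (e + 1) * lin β - C c * (lin ξ ^ (e + 1) * lin η)
  have hp : p.IsHomogeneous (e + 2) := by
    have h2 : ∀ a b : (Fin (r + 1) → k) →ₗ[k] k, (lin a ^ (e + 1) * lin b).IsHomogeneous (e + 2) := fun a b => by
      have := ((hl a).pow (e + 1)).mul (hl b)
      rwa [one_mul] at this
    exact ((h2 ξ α).add (h2 η β)).sub ((h2 ξ η).C_mul c)
  refine ⟨⟨p, (mem_homogeneousSubmodule _ _).2 hp⟩, fun w => ?_⟩
  have hadd : ∀ u a b, D w u (a + b) = D w u a + D w u b := fun u a b => by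
    simp [D, mul_add, Finset.sum_add_distrib]
  have hsub : ∀ u a b, D w u (a - b) = D w u a - D w u b := fun u a b => by
    simp [D, mul_sub, Finset.sum_sub_distrib]
  have hC : ∀ u, D w u (C c) = 0 := fun u => by simp [D]
  simp only [p, hadd, hsub, D_mul, D_pow, hC, D_lin, map_mul, map_add, map_sub, map_pow, eval_lin, eval_C, hξ₁,
    hξ₂, hη₁, hη₂, one_pow, Nat.add_sub_cancel]
  by_cases he : e = 0
  · subst he
    simp only [c, if_true]
    rw [← hc rfl]
    push_cast
    exact ⟨by ring, by ring⟩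
  · simp only [c, if_neg he, zero_pow he, zero_pow (Nat.succ_ne_zero e)]
    push_cast
    exact ⟨by ring, by ring⟩

theorem main (k : Type u) [Field k] (r d : ℕ) (hd : 2 ≤ d)
    (W₁ W₂ : Submodule k (Fin (r + 1) → k)) (v₁ v₂ : Fin (r + 1) → k) (h₁ : v₁ ∈ W₁) (h₂ : v₂ ∈ W₂)
    (hv : LinearIndependent k ![v₁, v₂]) :
    ((3 ≤ d ∨ ¬ (v₂ ∈ W₁ ∧ v₁ ∈ W₂)) →
      Module.finrank k (LefPen.Form r k d) =
        Module.finrank k ↥(LefPen.tangentForms k d W₁ v₁ W₂ v₂) + (Module.finrank k ↥W₁ + Module.finrank k ↥W₂)) ∧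
    ((d = 2 ∧ v₂ ∈ W₁ ∧ v₁ ∈ W₂) →
      Module.finrank k (LefPen.Form r k d) + 1 =
        Module.finrank k ↥(LefPen.tangentForms k d W₁ v₁ W₂ v₂) + (Module.finrank k ↥W₁ + Module.finrank k ↥W₂)) := by
  classical
  haveI : Module.Finite k (LefPen.Form r k d) := by
    haveI : FiniteDimensional k (Submodule.span k
        (((Finset.univ : Finset (Fin (r + 1))).finsuppAntidiag d).image (fun m => monomial m (1 : k)) :
          Set (MvPolynomial (Fin (r + 1)) k))) := FiniteDimensional.span_finset k _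
    refine Submodule.finiteDimensional_of_le (S₂ := Submodule.span k
        (((Finset.univ : Finset (Fin (r + 1))).finsuppAntidiag d).image (fun m => monomial m (1 : k)) :
          Set (MvPolynomial (Fin (r + 1)) k))) fun p hp => ?_
    rw [p.as_sum]
    refine sum_mem fun m hm => ?_
    rw [← mul_one (coeff m p), ← smul_eq_mul, ← smul_monomial]
    refine Submodule.smul_mem _ _ (Submodule.subset_span (Finset.mem_coe.2 (Finset.mem_image_of_mem _ ?_)))
    refine Finset.mem_finsuppAntidiag.2 ⟨?_, Finset.subset_univ _⟩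
    rw [← Finsupp.degree_eq_sum]
    by_contra h
    exact (mem_support_iff.1 hm) (((mem_homogeneousSubmodule d p).1 hp).coeff_eq_zero h)
  have hn1 : v₂ ∉ (k ∙ v₁) := fun h => by
    obtain ⟨a, ha⟩ := Submodule.mem_span_singleton.1 h
    exact one_ne_zero ((LinearIndependent.pair_iff.1 hv a (-1) (by rw [ha]; simp)).2 |> neg_eq_zero.1)
  have hn2 : v₁ ∉ (k ∙ v₂) := fun h => by
    obtain ⟨a, ha⟩ := Submodule.mem_span_singleton.1 h
    exact one_ne_zero ((LinearIndependent.pair_iff.1 hv (-1) a (by rw [ha]; simp)).1 |> neg_eq_zero.1)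
  obtain ⟨ξ, hξz, hξ₁⟩ := LinearMap.exists_extend_of_notMem (0 : (k ∙ v₂) →ₗ[k] k) hn2 1
  obtain ⟨η, hηz, hη₂⟩ := LinearMap.exists_extend_of_notMem (0 : (k ∙ v₁) →ₗ[k] k) hn1 1
  have hξ₂ : ξ v₂ = 0 := LinearMap.congr_fun hξz ⟨v₂, Submodule.mem_span_singleton_self _⟩
  have hη₁ : η v₁ = 0 := LinearMap.congr_fun hηz ⟨v₁, Submodule.mem_span_singleton_self _⟩
  let Ψ : LefPen.Form r k d →ₗ[k] (↥W₁ →ₗ[k] k) × (↥W₂ →ₗ[k] k) := (cond W₁ ξ v₁).prod (cond W₂ η v₂)
  have hker : LefPen.tangentForms k d W₁ v₁ W₂ v₂ = LinearMap.ker Ψ := by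
    ext G
    rw [LefPen.tangentForms, Submodule.mem_inf, mem_ker_tangLin W₁ ξ v₁ h₁ hξ₁, mem_ker_tangLin W₂ η v₂ h₂ hη₂]
    simp [Ψ, Prod.ext_iff]
  have hrn := LinearMap.finrank_range_add_finrank_ker Ψ
  have htot : Module.finrank k ((↥W₁ →ₗ[k] k) × (↥W₂ →ₗ[k] k)) = Module.finrank k W₁ + Module.finrank k W₂ := by
    rw [Module.finrank_prod, Subspace.dual_finrank_eq, Subspace.dual_finrank_eq]
  rw [hker]
  have hform : ∀ α' β' : (Fin (r + 1) → k) →ₗ[k] k, (d = 2 → α' v₂ = β' v₁) →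
      (α'.comp W₁.subtype, β'.comp W₂.subtype) ∈ LinearMap.range Ψ := fun α' β' hc => by
    obtain ⟨G, hG⟩ := exists_form hd v₁ v₂ ξ η α' β' hξ₁ hξ₂ hη₁ hη₂ hc
    exact ⟨G, Prod.ext (LinearMap.ext fun w => (hG w.1).1) (LinearMap.ext fun w => (hG w.1).2)⟩
  constructor
  · intro h
    have htop : LinearMap.range Ψ = ⊤ := by
      rw [eq_top_iff]
      rintro ⟨α, β⟩ -
      obtain ⟨α', rfl⟩ := α.exists_extend
      obtain ⟨β', rfl⟩ := β.exists_extend
      by_cases h2 : d = 2
      · have hor : v₂ ∉ W₁ ∨ v₁ ∉ W₂ := by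
          rcases h with h | h
          · omega
          · exact not_and_or.1 h
        rcases hor with hW | hW
        · obtain ⟨α'', e1, e2⟩ := LinearMap.exists_extend_of_notMem (α'.comp W₁.subtype) hW (β' v₁)
          rw [← e1]
          exact hform _ _ fun _ => e2
        · obtain ⟨β'', e1, e2⟩ := LinearMap.exists_extend_of_notMem (β'.comp W₂.subtype) hW (α' v₂)
          rw [← e1]
          exact hform _ _ fun _ => e2.symm
      · exact hform _ _ fun e => absurd e h2
    rw [htop, finrank_top, htot] at hrn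
    omega
  · rintro ⟨rfl, hv2, hv1⟩
    let δ : (↥W₁ →ₗ[k] k) × (↥W₂ →ₗ[k] k) →ₗ[k] k :=
      (LinearMap.applyₗ (⟨v₂, hv2⟩ : W₁)).comp (LinearMap.fst k _ _) -
        (LinearMap.applyₗ (⟨v₁, hv1⟩ : W₂)).comp (LinearMap.snd k _ _)
    have hrange : LinearMap.range Ψ = LinearMap.ker δ := by
      refine le_antisymm ?_ ?_
      · rintro _ ⟨G, rfl⟩
        simp only [LinearMap.mem_ker, δ, Ψ, LinearMap.sub_apply, LinearMap.comp_apply, LinearMap.fst_apply,
          LinearMap.snd_apply, LinearMap.prod_apply, Function.prod, LinearMap.applyₗ_apply_apply, cond_apply, hξ₂, hη₁]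
        rw [D_comm v₂ v₁ ((mem_homogeneousSubmodule 2 _).1 G.2)]
        ring
      · rintro ⟨α, β⟩ h0
        obtain ⟨α', rfl⟩ := α.exists_extend
        obtain ⟨β', rfl⟩ := β.exists_extend
        refine hform _ _ fun _ => ?_
        simp [δ, sub_eq_zero] at h0
        exact h0
    have hsurj : LinearMap.range δ = ⊤ := by
      refine LinearMap.range_eq_top.2 fun c => ⟨((c • η).comp W₁.subtype, 0), ?_⟩
      simp [δ, hη₂]
    have h5 := LinearMap.finrank_range_add_finrank_ker δ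
    rw [hsurj, finrank_top, Module.finrank_self, htot, ← hrange] at h5
    omega

end Groth.Agent.TanForms
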